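import Groth.Prelude.Def_SGA7a
import Groth.Agent.H80.CompleteDVRExt
import Mathlib

/-!
Inertia in the absolute Galois group of a henselian discretely valued field: the tame character
relation `τστ⁻¹ ≡ σ^χ(τ)` in every finite quotient of λ-power order, with λ invertible in the
residue field.
-/

set_option autoImplicit false

universe u

namespace Groth.Agent.Lib.LadicMonodromy

variable {R K Ω : Type u} [CommRing R] [IsDomain R] [IsDiscreteValuationRing R] [HenselianLocalRing R]
  [Field K] [Algebra R K] [IsFractionRing R K] [Field Ω] [Algebra K Ω] [IsSepClosure K Ω]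
  [Algebra R Ω] [IsScalarTower R K Ω] {W : ValuationSubring Ω} (hW : SGA7.LiesOver K R W)

/-- The integral closure of `R` in a finite subextension. -/
noncomputable abbrev IC (R : Type u) {K Ω : Type u} [CommRing R] [Field K] [Algebra R K] [Field Ω]
    [Algebra K Ω] [Algebra R Ω] [IsScalarTower R K Ω] (F : IntermediateField K Ω) :=
  integralClosure R F

omit [IsDomain R] [IsDiscreteValuationRing R] [HenselianLocalRing R] [IsFractionRing R K]
  [IsSepClosure K Ω] in
theorem tower (F : IntermediateField K Ω) : IsScalarTower R F Ω :=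
  IsScalarTower.of_algebraMap_eq fun r => by
    rw [IsScalarTower.algebraMap_apply R K F, IsScalarTower.algebraMap_apply R K Ω]; rfl

include hW in
theorem algebraMap_mem (r : R) : algebraMap R Ω r ∈ W := by
  rw [IsScalarTower.algebraMap_apply R K Ω]; exact hW.1 r

include hW in
theorem mem_of_isIntegral {x : Ω} (hx : IsIntegral R x) : x ∈ W := by
  let g : R →+* W := (algebraMap R Ω).codRestrict W.toSubring fun r => algebraMap_mem hW r
  obtain ⟨p, hp, hpx⟩ := hx
  have : IsIntegral W x := ⟨p.map g, hp.map g, by rw [Polynomial.eval₂_map]; exact hpx⟩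
  obtain ⟨y, hy⟩ := IsIntegrallyClosed.isIntegral_iff.1 this
  exact hy ▸ y.2

theorem finite_IC (F : IntermediateField K Ω) [FiniteDimensional K F] :
    Module.Finite R (IC R F) := by
  haveI : Algebra.IsSeparable K Ω := IsSepClosure.separable
  exact IsIntegralClosure.finite R K F (IC R F)

include hW in
/-- elements of the maximal ideal of `W` that are integral in a finite subextension are the
non-units -/
theorem valuation_lt_one_of_not_isUnit (F : IntermediateField K Ω) [FiniteDimensional K F]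
    (y : IC R F) (hy : ¬ IsUnit y) : W.valuation ((y : F) : Ω) < 1 := by
  haveI := finite_IC (R := R) F
  haveI := tower (R := R) F
  haveI : IsLocalRing (IC R F) := Groth.Agent.H80.CompleteDVRExt.isLocalRing_of_finite_domain R _
  have hmemW : ∀ z : IC R F, ((z : F) : Ω) ∈ W := fun z =>
    mem_of_isIntegral hW ((z.2 : IsIntegral R (z : F)).map (IsScalarTower.toAlgHom R F Ω))
  let g : IC R F →+* W :=
    ((algebraMap F Ω).comp (IC R F).val.toRingHom).codRestrict W.toSubring hmemW
  haveI hp : ((IsLocalRing.maximalIdeal W).comap g).IsPrime := Ideal.IsPrime.comap g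
  have hint : Algebra.IsIntegral R (IC R F) := Algebra.IsIntegral.of_finite R _
  have hunder : ((IsLocalRing.maximalIdeal W).comap g).comap (algebraMap R (IC R F)) =
      IsLocalRing.maximalIdeal R := by
    refine ((IsLocalRing.maximalIdeal.isMaximal R).eq_of_le (Ideal.IsPrime.comap _).ne_top ?_).symm
    intro r hr
    simp only [Ideal.mem_comap]
    rw [ValuationSubring.valuation_lt_one_iff]
    have := hW.2 r hr
    rwa [← IsScalarTower.algebraMap_apply R K Ω] at this
  haveI : (((IsLocalRing.maximalIdeal W).comap g).comap (algebraMap R (IC R F))).IsMaximal := by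
    rw [hunder]; infer_instance
  have hmax : ((IsLocalRing.maximalIdeal W).comap g).IsMaximal :=
    Ideal.isMaximal_of_isIntegral_of_isMaximal_comap _ this
  have hmem : y ∈ (IsLocalRing.maximalIdeal W).comap g := by
    rw [IsLocalRing.eq_maximalIdeal hmax]; exact hy
  exact (ValuationSubring.valuation_lt_one_iff W _).1 hmem

include hW in
/-- `W` is the integral closure of `R`. -/
theorem mem_iff_isIntegral (x : Ω) : x ∈ W ↔ IsIntegral R x := by
  refine ⟨fun hx => ?_, mem_of_isIntegral hW⟩
  haveI : Algebra.IsSeparable K Ω := IsSepClosure.separable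
  haveI : FiniteDimensional K (IntermediateField.adjoin K {x}) :=
    IntermediateField.adjoin.finiteDimensional (Algebra.IsIntegral.isIntegral x)
  let F := IntermediateField.adjoin K {x}
  haveI := finite_IC (R := R) F
  haveI := tower (R := R) F
  haveI : IsLocalRing (IC R F) := Groth.Agent.H80.CompleteDVRExt.isLocalRing_of_finite_domain R _
  haveI : IsDedekindDomain (IC R F) := integralClosure.isDedekindDomain R K F
  haveI : IsFractionRing (IC R F) F := integralClosure.isFractionRing_of_finite_extension K F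
  haveI : ValuationRing (IC R F) := by
    by_cases hf : IsField (IC R F)
    · letI := hf.toField; infer_instance
    · haveI : IsDiscreteValuationRing (IC R F) :=
        ((IsDiscreteValuationRing.TFAE (IC R F) hf).out 2 0).1 ‹IsDedekindDomain (IC R F)›
      infer_instance
  let x' : F := ⟨x, IntermediateField.mem_adjoin_simple_self K x⟩
  rcases (ValuationRing.isInteger_or_isInteger (IC R F) x') with ⟨y, hy⟩ | ⟨y, hy⟩
  · have := (y.2 : IsIntegral R (y : F)).map (IsScalarTower.toAlgHom R F Ω)
    rwa [show ((IsScalarTower.toAlgHom R F Ω) (y : F)) = x from by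
      simpa [x'] using congrArg (fun z : F => (z : Ω)) hy] at this
  · by_cases hu : IsUnit y
    · obtain ⟨z, hz⟩ := hu.exists_right_inv
      have hxz : (z : F) = x' := by
        have h1 : ((y : F)) * (z : F) = 1 := by exact_mod_cast congrArg Subtype.val hz
        have h2 : (y : F) = x'⁻¹ := hy
        rw [h2] at h1
        exact (eq_of_inv_mul_eq_one h1).symm
      have := (z.2 : IsIntegral R (z : F)).map (IsScalarTower.toAlgHom R F Ω)
      rwa [show ((IsScalarTower.toAlgHom R F Ω) (z : F)) = x from by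
        simpa [x'] using congrArg (fun w : F => (w : Ω)) hxz] at this
    · have hlt := valuation_lt_one_of_not_isUnit hW F y hu
      have h2 : ((y : F) : Ω) = x⁻¹ := by
        have : (y : F) = x'⁻¹ := hy
        simpa [x'] using congrArg (fun z : F => (z : Ω)) this
      rw [h2, map_inv₀] at hlt
      rcases eq_or_ne x 0 with rfl | hx0
      · exact isIntegral_zero
      · exact absurd ((W.valuation_le_one_iff x).2 hx)
          (not_le.2 ((inv_lt_one₀ (zero_lt_iff.2 (W.valuation.ne_zero_iff.2 hx0))).1 hlt))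

include hW in
theorem apply_mem (σ : Ω ≃ₐ[K] Ω) {x : Ω} (hx : x ∈ W) : σ x ∈ W := by
  rw [mem_iff_isIntegral hW] at hx ⊢
  exact hx.map (σ.toAlgHom.restrictScalars R)

include hW in
theorem valuation_apply_le_iff (σ : Ω ≃ₐ[K] Ω) (x y : Ω) :
    W.valuation (σ x) ≤ W.valuation (σ y) ↔ W.valuation x ≤ W.valuation y := by
  have key : ∀ (g : Ω ≃ₐ[K] Ω) (x y : Ω), W.valuation x ≤ W.valuation y →
      W.valuation (g x) ≤ W.valuation (g y) := by
    intro g x y h
    rcases eq_or_ne y 0 with rfl | hy
    · rw [map_zero, le_zero_iff, map_eq_zero] at h; simp [h]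
    have hm : x / y ∈ W := by
      rw [← W.valuation_le_one_iff, map_div₀]
      exact div_le_one_of_le₀ h zero_le'
    have := (W.valuation_le_one_iff _).2 (apply_mem hW g hm)
    rw [map_div₀, map_div₀, div_le_one₀ (zero_lt_iff.2 (W.valuation.ne_zero_iff.2 (by simpa using hy)))] at this
    exact this
  exact ⟨fun h => by simpa using key σ.symm _ _ h, key σ x y⟩

include hW in
theorem valuation_apply_lt_one (σ : Ω ≃ₐ[K] Ω) {x : Ω} (hx : W.valuation x < 1) :
    W.valuation (σ x) < 1 := by
  rw [lt_iff_not_ge] at hx ⊢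
  intro h
  apply hx
  have := valuation_apply_le_iff hW σ 1 x
  simp only [map_one] at this
  exact this.1 h

include hW in
theorem valuation_apply (σ : Ω ≃ₐ[K] Ω) (x : Ω) : W.valuation (σ x) = W.valuation x := by
  classical
  haveI : Algebra.IsSeparable K Ω := IsSepClosure.separable
  have key : ∀ (g : Ω ≃ₐ[K] Ω) (x : Ω), W.valuation x ≤ W.valuation (g x) := by
    intro g x
    by_contra hlt
    push Not at hlt
    have hmono : StrictAnti fun i : ℕ => W.valuation ((g ^ i) x) := by
      refine strictAnti_nat_of_succ_lt fun i => ?_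
      rw [pow_succ, AlgEquiv.mul_apply, lt_iff_not_ge, valuation_apply_le_iff hW]
      exact not_le.2 hlt
    have hinj : Function.Injective fun i : ℕ => (g ^ i) x :=
      fun i j h => hmono.injective (congrArg W.valuation h)
    refine Set.infinite_range_of_injective hinj (Set.Finite.subset
      ((minpoly K x).aroots Ω).toFinset.finite_toSet ?_)
    rintro _ ⟨i, rfl⟩
    simp only [Finset.mem_coe, Multiset.mem_toFinset, Polynomial.mem_aroots]
    refine ⟨minpoly.ne_zero (Algebra.IsIntegral.isIntegral x), ?_⟩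
    have := Polynomial.aeval_algHom_apply (g ^ i).toAlgHom x (minpoly K x)
    rw [minpoly.aeval, map_zero] at this
    exact this
  refine le_antisymm ?_ (key σ x)
  simpa using key σ.symm (σ x)

include hW in
theorem div_mem (σ : Ω ≃ₐ[K] Ω) (x : Ω) : σ x / x ∈ W := by
  rw [← W.valuation_le_one_iff, map_div₀, valuation_apply hW]
  exact div_self_le_one _

/-- The Kummer cocycle in the residue field. -/
noncomputable def th (σ : Ω ≃ₐ[K] Ω) (x : Ω) : IsLocalRing.ResidueField W :=
  IsLocalRing.residue W ⟨σ x / x, div_mem hW σ x⟩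

theorem residue_eq_of_lt {a b : W} (h : W.valuation ((a : Ω) - b) < 1) :
    IsLocalRing.residue W a = IsLocalRing.residue W b := by
  rw [← sub_eq_zero, ← map_sub, IsLocalRing.residue_eq_zero_iff, ValuationSubring.valuation_lt_one_iff]
  simpa using h

include hW in
theorem residue_apply_inertia {σ : Ω ≃ₐ[K] Ω} (hσ : SGA7.IsInertia W σ) (a : W) :
    IsLocalRing.residue W ⟨σ a, apply_mem hW σ a.2⟩ = IsLocalRing.residue W a :=
  residue_eq_of_lt (hσ a a.2).2

theorem th_one {x : Ω} (hx : x ≠ 0) : th hW 1 x = 1 := by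
  rw [th, ← map_one (IsLocalRing.residue W)]; congr 1; ext; simp [hx]

theorem th_of_fix {σ : Ω ≃ₐ[K] Ω} {x : Ω} (hx : x ≠ 0) (h : σ x = x) : th hW σ x = 1 := by
  rw [th, ← map_one (IsLocalRing.residue W)]; congr 1; ext; simp [hx, h]

theorem th_mul {σ τ : Ω ≃ₐ[K] Ω} (hσ : SGA7.IsInertia W σ) {x : Ω} (hx : x ≠ 0) :
    th hW (σ * τ) x = th hW σ x * th hW τ x := by
  have e : (⟨(σ * τ) x / x, div_mem hW _ x⟩ : W) =
      ⟨σ (τ x / x), apply_mem hW σ (div_mem hW τ x)⟩ * ⟨σ x / x, div_mem hW σ x⟩ := by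
    ext
    simp only [AlgEquiv.mul_apply, MulMemClass.mk_mul_mk, map_div₀]
    rw [div_mul_div_cancel₀ (by simpa using hx)]
  rw [th, e, map_mul, residue_apply_inertia hW hσ ⟨τ x / x, div_mem hW τ x⟩, mul_comm]
  rfl

theorem th_pow {σ : Ω ≃ₐ[K] Ω} (hσ : SGA7.IsInertia W σ) {x : Ω} (hx : x ≠ 0) (k : ℕ) :
    th hW (σ ^ k) x = th hW σ x ^ k := by
  induction k with
  | zero => simpa using th_one hW hx
  | succ k ih => rw [pow_succ', th_mul hW hσ hx, ih, pow_succ']

/-- The inertia subgroup. -/
def inertia : Subgroup (Ω ≃ₐ[K] Ω) where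
  carrier := {σ | SGA7.IsInertia W σ}
  one_mem' := fun x hx => by simpa using hx
  mul_mem' := by
    intro a b ha hb x hx
    refine ⟨apply_mem hW _ hx, ?_⟩
    have e : (a * b) x - x = a (b x - x) + (a x - x) := by simp
    rw [e]
    exact Valuation.map_add_lt _ (valuation_apply_lt_one hW a (hb x hx).2) (ha x hx).2
  inv_mem' := by
    intro a ha x hx
    refine ⟨apply_mem hW _ hx, ?_⟩
    have h := (ha (a⁻¹ x) (apply_mem hW _ hx)).2
    rw [show a (a⁻¹ x) = x from a.apply_symm_apply x] at h
    rwa [Valuation.map_sub_swap] at h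

theorem mem_inertia {σ : Ω ≃ₐ[K] Ω} : σ ∈ inertia hW ↔ SGA7.IsInertia W σ := Iff.rfl

theorem conj_mem_inertia {σ : Ω ≃ₐ[K] Ω} (hσ : SGA7.IsInertia W σ) (τ : Ω ≃ₐ[K] Ω) :
    τ * σ * τ⁻¹ ∈ inertia hW := by
  intro x hx
  refine ⟨apply_mem hW _ hx, ?_⟩
  have h := valuation_apply_lt_one hW τ (hσ (τ⁻¹ x) (apply_mem hW _ hx)).2
  rw [map_sub, show τ (τ⁻¹ x) = x from τ.apply_symm_apply x] at h
  simpa using h

/-- An inertia element of order dividing the prime `l` at `x` with trivial cocycle fixes `x`. -/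
theorem fix_of_th_eq_one {l : ℕ} (hl0 : (l : IsLocalRing.ResidueField W) ≠ 0) {δ : Ω ≃ₐ[K] Ω}
    (hδ : SGA7.IsInertia W δ) (P : Ω → Prop) (hP : ∀ x, P x → (δ ^ l) x = x ∧
      P (x - (∑ i ∈ Finset.range l, (δ ^ i) x) / l))
    (hth : ∀ x, P x → x ≠ 0 → th hW δ x = 1) {x : Ω} (hx : P x) : δ x = x := by
  have hlΩ : (l : Ω) ≠ 0 := by
    intro h0
    apply hl0
    rw [← map_natCast (IsLocalRing.residue W)]
    have : (l : W) = 0 := by ext; simpa using h0
    rw [this, map_zero]
  let T : Ω := ∑ i ∈ Finset.range l, (δ ^ i) x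
  have hT : δ T = T := by
    have h1 : δ T = ∑ i ∈ Finset.range l, (δ ^ (i + 1)) x := by
      simp [T, map_sum, pow_succ', AlgEquiv.mul_apply]
    have h2 := (Finset.sum_range_succ' (fun i => (δ ^ i) x) l).symm.trans
      (Finset.sum_range_succ (fun i => (δ ^ i) x) l)
    rw [h1]
    rw [(hP x hx).1] at h2
    simpa [T] using h2
  have hs : δ (T / l) = T / l := by simp [hT]
  let y : Ω := x - T / l
  have hy : P y := (hP x hx).2
  have hfix : ∀ i : ℕ, (δ ^ i) (T / l) = T / l := by
    intro i
    induction i with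
    | zero => simp
    | succ i ih => rw [pow_succ, AlgEquiv.mul_apply, hs, ih]
  rcases eq_or_ne y 0 with h0 | h0
  · have : x = T / l := sub_eq_zero.1 h0
    rw [this]; exact hs
  exfalso
  apply hl0
  have hsum : ∑ i ∈ Finset.range l, ((δ ^ i) y / y) = 0 := by
    rw [← Finset.sum_div]
    have : ∑ i ∈ Finset.range l, (δ ^ i) y = 0 := by
      simp only [y, map_sub, hfix, Finset.sum_sub_distrib, Finset.sum_const, Finset.card_range,
        nsmul_eq_mul, mul_div_cancel₀ _ hlΩ]
      simp [T]
    rw [this, zero_div]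
  have hW0 : (∑ i ∈ Finset.range l, (⟨(δ ^ i) y / y, div_mem hW _ y⟩ : W)) = 0 := by
    ext; simpa using hsum
  have := congrArg (IsLocalRing.residue W) hW0
  rw [map_sum, map_zero] at this
  have h1 : ∀ i, IsLocalRing.residue W (⟨(δ ^ i) y / y, div_mem hW _ y⟩ : W) = 1 := fun i => by
    show th hW (δ ^ i) y = 1
    rw [th_pow hW hδ h0, hth y hy h0, one_pow]
  rw [Finset.sum_congr rfl fun i _ => h1 i, Finset.sum_const, Finset.card_range, nsmul_one] at this
  exact this

/-- The cocycle of an element with trivial `N`-th power is multiplied by `c` under conjugation. -/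
theorem th_conj {N c : ℕ} (hN : (N : IsLocalRing.ResidueField W) ≠ 0) {ζ : Ω}
    (hζ : IsPrimitiveRoot ζ N) {τ : Ω ≃ₐ[K] Ω} (hτ : τ ζ = ζ ^ c) {σ : Ω ≃ₐ[K] Ω}
    (hσ : SGA7.IsInertia W σ) {x : Ω} (hx : x ≠ 0) (hNx : (σ ^ N) (τ⁻¹ x) = τ⁻¹ x) :
    th hW (τ * σ * τ⁻¹) x = th hW (σ ^ c) x := by
  haveI : NeZero N := ⟨fun h => hN (by simp [h])⟩
  haveI : NeZero (N : IsLocalRing.ResidueField W) := ⟨hN⟩
  have hζW : ζ ∈ W := mem_of_isIntegral hW (hζ.isIntegral (NeZero.pos N) |>.tower_top)
  have hζ' : IsPrimitiveRoot (⟨ζ, hζW⟩ : W) N :=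
    IsPrimitiveRoot.of_map_of_injective (f := W.subtype) (by simpa using hζ) Subtype.val_injective
  have hζk : IsPrimitiveRoot (IsLocalRing.residue W ⟨ζ, hζW⟩) N := by
    rw [← Polynomial.isRoot_cyclotomic_iff, ← Polynomial.map_cyclotomic N (IsLocalRing.residue W)]
    exact Polynomial.IsRoot.map (hζ'.isRoot_cyclotomic (NeZero.pos N))
  set y := τ⁻¹ x with hy
  have hy0 : y ≠ 0 := by simp [hy, hx]
  have hpow : th hW σ y ^ N = 1 := by rw [← th_pow hW hσ hy0, th_of_fix hW hy0 hNx]
  obtain ⟨a, -, ha⟩ := hζk.eq_pow_of_pow_eq_one hpow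
  -- move by τ
  have hlt : W.valuation (σ y / y - ζ ^ a) < 1 := by
    have : IsLocalRing.residue W (⟨σ y / y, div_mem hW σ y⟩ - ⟨ζ, hζW⟩ ^ a) = 0 := by
      rw [map_sub, map_pow, ha]; exact sub_self _
    rw [IsLocalRing.residue_eq_zero_iff, ValuationSubring.valuation_lt_one_iff] at this
    simpa using this
  have hlt' := valuation_apply_lt_one hW τ hlt
  have hτy : τ y = x := τ.apply_symm_apply x
  rw [map_sub, map_div₀, map_pow, hτ, hτy, ← pow_mul, mul_comm, pow_mul] at hlt'
  have h1 : th hW (τ * σ * τ⁻¹) x = th hW σ y ^ c := by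
    rw [← ha, ← map_pow, ← map_pow]
    refine residue_eq_of_lt ?_
    simpa [hy] using hlt'
  rw [h1, th_pow hW hσ hx]
  -- the cocycle does not change when `x` is multiplied by a unit
  congr 1
  have hu : y / x ∈ W := by simpa [hy] using div_mem hW τ⁻¹ x
  have e : (⟨σ y / y, div_mem hW σ y⟩ : W) * ⟨y / x, hu⟩ =
      ⟨σ (y / x), apply_mem hW σ hu⟩ * ⟨σ x / x, div_mem hW σ x⟩ := by
    ext
    simp only [MulMemClass.mk_mul_mk, map_div₀]
    rw [div_mul_div_cancel₀ hy0, div_mul_div_cancel₀ (by simpa using hx)]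
  have e' := congrArg (IsLocalRing.residue W) e
  rw [map_mul, map_mul, residue_apply_inertia hW hσ ⟨y / x, hu⟩, mul_comm] at e'
  have hne : IsLocalRing.residue W ⟨y / x, hu⟩ ≠ 0 := by
    rw [Ne, IsLocalRing.residue_eq_zero_iff, ValuationSubring.valuation_lt_one_iff]
    simp only [map_div₀, hy]
    rw [valuation_apply hW, div_self (W.valuation.ne_zero_iff.2 hx)]
    simp
  exact mul_left_cancel₀ hne e'

end Groth.Agent.Lib.LadicMonodromy
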