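import Mathlib

/-!
Congruence subgroups of `GL_n(ℚ_ℓ)` and the eigenvalue argument of the ℓ-adic monodromy theorem.
-/

namespace Groth.Agent.Lib.LadicMonodromy

open Matrix Finset

variable {n : ℕ} {l : ℕ} [hl : Fact l.Prime]

section Bd

variable {F : Type*} [NormedField F] [IsUltrametricDist F]

/-- all entries have norm at most `r` -/
def Bd (r : ℝ) (A : Matrix (Fin n) (Fin n) F) : Prop := ∀ i j, ‖A i j‖ ≤ r

theorem Bd.mono {r s : ℝ} {A : Matrix (Fin n) (Fin n) F} (h : Bd r A) (hrs : r ≤ s) : Bd s A :=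
  fun i j => (h i j).trans hrs

theorem Bd.zero {r : ℝ} (hr : 0 ≤ r) : Bd r (0 : Matrix (Fin n) (Fin n) F) := by
  intro i j; simpa using hr

theorem Bd.one : Bd 1 (1 : Matrix (Fin n) (Fin n) F) := by
  intro i j
  rcases eq_or_ne i j with h | h
  · subst h; simp
  · simp [Matrix.one_apply_ne h]

theorem Bd.add {r : ℝ} {A B : Matrix (Fin n) (Fin n) F} (hA : Bd r A) (hB : Bd r B) :
    Bd r (A + B) := fun i j =>
  (IsUltrametricDist.norm_add_le_max _ _).trans (max_le (hA i j) (hB i j))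

theorem Bd.neg {r : ℝ} {A : Matrix (Fin n) (Fin n) F} (hA : Bd r A) : Bd r (-A) := by
  intro i j; simpa using hA i j

theorem Bd.sub {r : ℝ} {A B : Matrix (Fin n) (Fin n) F} (hA : Bd r A) (hB : Bd r B) :
    Bd r (A - B) := by simpa [sub_eq_add_neg] using hA.add hB.neg

theorem Bd.mul {r s : ℝ} (hr : 0 ≤ r) (hs : 0 ≤ s) {A B : Matrix (Fin n) (Fin n) F} (hA : Bd r A)
    (hB : Bd s B) : Bd (r * s) (A * B) := by
  intro i j
  rw [Matrix.mul_apply]
  refine IsUltrametricDist.norm_sum_le_of_forall_le_of_nonneg (mul_nonneg hr hs) fun k _ => ?_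
  rw [norm_mul]; exact mul_le_mul (hA i k) (hB k j) (norm_nonneg _) hr

theorem Bd.sum {ι : Type*} {r : ℝ} (hr : 0 ≤ r) (s : Finset ι)
    {f : ι → Matrix (Fin n) (Fin n) F} (h : ∀ i ∈ s, Bd r (f i)) : Bd r (∑ i ∈ s, f i) := by
  intro a b
  rw [Matrix.sum_apply]
  exact IsUltrametricDist.norm_sum_le_of_forall_le_of_nonneg hr fun k hk => h k hk a b

theorem Bd.of_near_one {r : ℝ} (hr : r ≤ 1) {A : Matrix (Fin n) (Fin n) F} (hA : Bd r (A - 1)) :
    Bd 1 A := by simpa using (hA.mono hr).add Bd.one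

theorem Bd.mul_near_one {r : ℝ} (hr0 : 0 ≤ r) (hr : r ≤ 1) {A B : Matrix (Fin n) (Fin n) F}
    (hA : Bd r (A - 1)) (hB : Bd r (B - 1)) : Bd r (A * B - 1) := by
  have e : A * B - 1 = A * (B - 1) + (A - 1) := by rw [mul_sub, mul_one]; abel
  rw [e]
  have := Bd.mul zero_le_one hr0 (Bd.of_near_one hr hA) hB
  rw [one_mul] at this
  exact this.add hA

theorem Bd.pow_near_one {r : ℝ} (hr0 : 0 ≤ r) (hr : r ≤ 1) {A : Matrix (Fin n) (Fin n) F}
    (hA : Bd r (A - 1)) (k : ℕ) : Bd r (A ^ k - 1) := by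
  induction k with
  | zero => simpa using Bd.zero hr0
  | succ k ih => rw [pow_succ]; exact Bd.mul_near_one hr0 hr ih hA

end Bd

theorem inv_l_pos : 0 < (l : ℝ)⁻¹ := inv_pos.2 (by exact_mod_cast hl.out.pos)

theorem inv_l_lt_one : (l : ℝ)⁻¹ < 1 := inv_lt_one_of_one_lt₀ (by exact_mod_cast hl.out.one_lt)

/-- the radius of level `m` -/
noncomputable def rad (l m : ℕ) : ℝ := ((l : ℝ)⁻¹) ^ m

theorem rad_nonneg (m : ℕ) : 0 ≤ rad l m := pow_nonneg inv_l_pos.le _

theorem rad_pos (m : ℕ) : 0 < rad l m := pow_pos inv_l_pos _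

theorem rad_le_one (m : ℕ) : rad l m ≤ 1 := pow_le_one₀ inv_l_pos.le inv_l_lt_one.le

theorem rad_anti {m m' : ℕ} (h : m ≤ m') : rad l m' ≤ rad l m :=
  pow_le_pow_of_le_one inv_l_pos.le inv_l_lt_one.le h

theorem Bd.pow_l {m : ℕ} (hm : 1 ≤ m) {A : Matrix (Fin n) (Fin n) ℚ_[l]}
    (hA : Bd (rad l m) (A - 1)) : Bd (rad l (m + 1)) (A ^ l - 1) := by
  rw [← geom_sum_mul, rad, pow_succ', ← rad]
  refine Bd.mul inv_l_pos.le (rad_nonneg m) ?_ hA
  have e : ∑ i ∈ Finset.range l, A ^ i =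
      ∑ i ∈ Finset.range l, (A ^ i - 1) + (l : Matrix (Fin n) (Fin n) ℚ_[l]) := by
    simp [Finset.sum_sub_distrib]
  rw [e]
  refine (Bd.sum inv_l_pos.le _ fun i _ => ?_).add ?_
  · refine (Bd.pow_near_one (rad_nonneg m) (rad_le_one m) hA i).mono ?_
    simpa [rad] using rad_anti (l := l) hm
  · intro i j
    by_cases h : i = j
    · subst h
      simpa [Matrix.natCast_apply] using (Padic.norm_p (p := l)).le
    · simpa [Matrix.natCast_apply, h] using inv_l_pos.le

/-- congruence subgroup of level `m` -/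
noncomputable def Cong (n l m : ℕ) [Fact l.Prime] : Subgroup (GL (Fin n) ℚ_[l]) where
  carrier := {g | Bd (rad l m) ((g : Matrix (Fin n) (Fin n) ℚ_[l]) - 1) ∧
    Bd (rad l m) (((g⁻¹ : GL (Fin n) ℚ_[l]) : Matrix (Fin n) (Fin n) ℚ_[l]) - 1)}
  one_mem' := by simpa using Bd.zero (rad_nonneg m)
  mul_mem' := by
    intro a b ha hb
    refine ⟨?_, ?_⟩
    · simpa using Bd.mul_near_one (rad_nonneg m) (rad_le_one m) ha.1 hb.1
    · simpa [_root_.mul_inv_rev] using Bd.mul_near_one (rad_nonneg m) (rad_le_one m) hb.2 ha.2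
  inv_mem' := by
    intro a ha; exact ⟨ha.2, by simpa using ha.1⟩

theorem cong_mono {m m' : ℕ} (h : m ≤ m') : Cong n l m' ≤ Cong n l m :=
  fun _ hg => ⟨hg.1.mono (rad_anti h), hg.2.mono (rad_anti h)⟩

theorem cong_conj {m : ℕ} {g h : GL (Fin n) ℚ_[l]} (hh : h ∈ Cong n l 0) (hg : g ∈ Cong n l m) :
    h * g * h⁻¹ ∈ Cong n l m := by
  have key : ∀ x : GL (Fin n) ℚ_[l], Bd (rad l m) ((x : Matrix (Fin n) (Fin n) ℚ_[l]) - 1) →
      Bd (rad l m) (((h * x * h⁻¹ : GL (Fin n) ℚ_[l]) : Matrix (Fin n) (Fin n) ℚ_[l]) - 1) := by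
    intro x hx
    have e : ((h * x * h⁻¹ : GL (Fin n) ℚ_[l]) : Matrix (Fin n) (Fin n) ℚ_[l]) - 1 =
        (h : Matrix (Fin n) (Fin n) ℚ_[l]) * ((x : Matrix (Fin n) (Fin n) ℚ_[l]) - 1) *
          ((h⁻¹ : GL (Fin n) ℚ_[l]) : Matrix (Fin n) (Fin n) ℚ_[l]) := by
      rw [mul_sub, sub_mul, mul_one, Units.val_mul, Units.val_mul, Units.mul_inv]
    rw [e]
    have h1 := Bd.mul zero_le_one (rad_nonneg m) (Bd.of_near_one (rad_le_one 0) hh.1) hx
    rw [one_mul] at h1
    have h2 := Bd.mul (rad_nonneg m) zero_le_one h1 (Bd.of_near_one (rad_le_one 0) hh.2)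
    rwa [mul_one] at h2
  refine ⟨key g hg.1, ?_⟩
  have := key g⁻¹ hg.2
  simpa [mul_assoc] using this

theorem cong_pow_l {m : ℕ} (hm : 1 ≤ m) {g : GL (Fin n) ℚ_[l]} (hg : g ∈ Cong n l m) :
    g ^ l ∈ Cong n l (m + 1) := by
  refine ⟨?_, ?_⟩
  · simpa using Bd.pow_l hm hg.1
  · rw [← inv_pow]; simpa using Bd.pow_l hm hg.2

theorem cong_pow_pow {m : ℕ} (hm : 1 ≤ m) {g : GL (Fin n) ℚ_[l]} (hg : g ∈ Cong n l m) (k : ℕ) :
    g ^ (l ^ k) ∈ Cong n l (m + k) := by
  induction k with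
  | zero => simpa using hg
  | succ k ih => rw [pow_succ, pow_mul]; exact cong_pow_l (hm.trans (Nat.le_add_right _ _)) ih

theorem isOpen_cong (m : ℕ) : IsOpen (Cong n l m : Set (GL (Fin n) ℚ_[l])) := by
  have hB : IsOpen {M : Matrix (Fin n) (Fin n) ℚ_[l] | Bd (rad l m) (M - 1)} := by
    simp only [Bd, Set.setOf_forall]
    refine isOpen_iInter_of_finite fun i => isOpen_iInter_of_finite fun j => ?_
    have hb : IsOpen (Metric.closedBall ((1 : Matrix (Fin n) (Fin n) ℚ_[l]) i j) (rad l m)) :=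
      IsUltrametricDist.isOpen_closedBall _ (rad_pos m).ne'
    have hc : Continuous fun M : Matrix (Fin n) (Fin n) ℚ_[l] => M i j := continuous_apply_apply i j
    have := hb.preimage hc
    simpa [Set.preimage, Metric.mem_closedBall, dist_eq_norm, Matrix.sub_apply] using this
  exact (hB.preimage Units.continuous_val).inter (hB.preimage Units.continuous_coe_inv)

section Num

variable {F : Type*} [NormedField F] [IsUltrametricDist F]

/-- `‖x ^ N - 1‖ = ‖N‖ * ‖x - 1‖` close to `1`. -/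
theorem norm_pow_sub_one (hF : ∀ q : ℕ, q.Prime → rad l 1 ≤ ‖(q : F)‖) {N : ℕ} (hN : 0 < N) :
    ∀ {x : F}, ‖x - 1‖ ≤ rad l 2 → ‖x ^ N - 1‖ = ‖(N : F)‖ * ‖x - 1‖ := by
  induction N using Nat.recOnMul with
  | zero => omega
  | one => intro x _; simp
  | prime q hq =>
    intro x hx
    have hlt : rad l 2 < rad l 1 := by
      simpa [rad, pow_two] using mul_lt_of_lt_one_left (inv_l_pos (l := l)) (inv_l_lt_one (l := l))
    have hpow : ∀ i : ℕ, ‖x ^ i - 1‖ ≤ rad l 2 := by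
      intro i
      induction i with
      | zero => simpa using rad_nonneg 2
      | succ i ih =>
        have hx1 : ‖x‖ ≤ 1 := by
          calc ‖x‖ = ‖(x - 1) + 1‖ := by ring_nf
            _ ≤ max ‖x - 1‖ ‖(1 : F)‖ := IsUltrametricDist.norm_add_le_max _ _
            _ ≤ 1 := by simp [hx.trans (rad_le_one 2)]
        rw [show x ^ (i + 1) - 1 = (x ^ i - 1) * x + (x - 1) by ring]
        refine (IsUltrametricDist.norm_add_le_max _ _).trans (max_le ?_ hx)
        rw [norm_mul]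
        exact (mul_le_mul ih hx1 (norm_nonneg _) (rad_nonneg 2)).trans (by rw [mul_one])
    have hsum : ‖∑ i ∈ Finset.range q, (x ^ i - 1)‖ ≤ rad l 2 :=
      IsUltrametricDist.norm_sum_le_of_forall_le_of_nonneg (rad_nonneg 2) fun i _ => hpow i
    have hlt' : ‖∑ i ∈ Finset.range q, (x ^ i - 1)‖ < ‖(q : F)‖ :=
      lt_of_le_of_lt hsum (lt_of_lt_of_le hlt (hF q hq))
    rw [← geom_sum_mul, norm_mul]
    congr 1
    have e : ∑ i ∈ Finset.range q, x ^ i = ∑ i ∈ Finset.range q, (x ^ i - 1) + (q : F) := by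
      simp [Finset.sum_sub_distrib]
    rw [e, IsUltrametricDist.norm_add_eq_max_of_norm_ne_norm hlt'.ne, max_eq_right hlt'.le]
  | mul a b iha ihb =>
    intro x hx
    have ha : 0 < a := by rcases Nat.eq_zero_or_pos a with h | h <;> simp_all
    have hb : 0 < b := by rcases Nat.eq_zero_or_pos b with h | h <;> simp_all
    have e1 := iha ha hx
    have h2 : ‖x ^ a - 1‖ ≤ rad l 2 := by
      rw [e1]
      refine (mul_le_of_le_one_left (norm_nonneg _) ?_).trans hx
      exact IsUltrametricDist.norm_natCast_le_one F a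
    rw [pow_mul, ihb hb h2, e1, Nat.cast_mul, norm_mul]; ring

theorem norm_pow_sub_pow {x : F} (hx : ‖x - 1‖ ≤ rad l 2) (i j : ℕ) (hij : i ≤ j) :
    ‖x ^ j - x ^ i‖ = ‖x ^ (j - i) - 1‖ := by
  have hx1 : ‖x‖ = 1 := by
    have h : ‖x - 1‖ < ‖(1 : F)‖ := by
      rw [norm_one]
      refine lt_of_le_of_lt (hx.trans (rad_anti one_le_two)) ?_
      simpa [rad] using inv_l_lt_one (l := l)
    have := IsUltrametricDist.norm_add_eq_max_of_norm_ne_norm h.ne
    rw [sub_add_cancel, max_eq_right h.le, norm_one] at this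
    exact this
  rw [show x ^ j - x ^ i = x ^ i * (x ^ (j - i) - 1) by
    rw [mul_sub, ← pow_add, Nat.add_sub_cancel' hij, mul_one], norm_mul, norm_pow, hx1]
  simp

end Num

theorem padic_prime_norm (q : ℕ) (hq : q.Prime) : rad l 1 ≤ ‖(q : ℚ_[l])‖ := by
  rcases eq_or_ne q l with rfl | h
  · simp [rad]
  · have hc : ¬ l ∣ q := fun hd => h ((Nat.prime_dvd_prime_iff_eq hl.out hq).1 hd).symm
    rw [(Padic.norm_natCast_eq_one_iff).2 ((Nat.Prime.coprime_iff_not_dvd hl.out).2 hc)]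
    exact rad_le_one 1

theorem algCl_prime_norm (q : ℕ) (hq : q.Prime) : rad l 1 ≤ ‖(q : PadicAlgCl l)‖ := by
  rw [← map_natCast (algebraMap ℚ_[l] (PadicAlgCl l)) q, PadicAlgCl.norm_extends]
  exact padic_prime_norm q hq

/-- The eigenvalue argument. -/
theorem isNilpotent_of_conj (A : GL (Fin n) ℚ_[l]) (hA : A ∈ Cong n l 2) (r : ℕ) (T : GL (Fin n) ℚ_[l])
    (hT : T ∈ Cong n l 0) (c : ℕ → ℕ)
    (hc : ∀ m, r ≤ m → ¬ l ∣ c m ∧ ∀ d, 1 ≤ d → d ≤ n → ¬ (c m) ^ d ≡ 1 [MOD l ^ r])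
    (h : ∀ m, T * A * T⁻¹ * (A ^ c m)⁻¹ ∈ Cong n l m) :
    IsNilpotent ((A : Matrix (Fin n) (Fin n) ℚ_[l]) - 1) := by
  classical
  let f : ℚ_[l] →+* PadicAlgCl l := algebraMap _ _
  let B : Matrix (Fin n) (Fin n) (PadicAlgCl l) := (A : Matrix (Fin n) (Fin n) ℚ_[l]).map f
  have hnf : ∀ x, ‖f x‖ = ‖x‖ := fun x => PadicAlgCl.norm_extends l x
  have bdmap : ∀ (s : ℝ) (M : Matrix (Fin n) (Fin n) ℚ_[l]), Bd s M → Bd s (M.map f) := by
    intro s M hM i j; simpa [Matrix.map_apply, hnf] using hM i j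
  have hB1 : Bd (rad l 2) (B - 1) := by
    have := bdmap _ _ hA.1
    simpa [B, Matrix.map_sub, Matrix.map_one] using this
  let P := B.charpoly
  have hmon : P.Monic := B.charpoly_monic
  have hdeg : P.natDegree = n := by simp [P, Matrix.charpoly_natDegree_eq_dim]
  -- eigenvectors of norm one
  have eig : ∀ a, P.IsRoot a → ∃ v : Fin n → PadicAlgCl l, (∀ i, ‖v i‖ ≤ 1) ∧ (∃ i, ‖v i‖ = 1) ∧
      B *ᵥ v = a • v := by
    intro a ha
    have hd : (Matrix.scalar (Fin n) a - B).det = 0 := by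
      rw [← Matrix.eval_charpoly]; exact ha
    obtain ⟨w, hw0, hw⟩ := Matrix.exists_mulVec_eq_zero_iff.2 hd
    obtain ⟨i1, hi1⟩ : ∃ i, w i ≠ 0 := Function.ne_iff.1 hw0
    obtain ⟨i0, -, hi0⟩ := Finset.exists_max_image Finset.univ (fun i => ‖w i‖) ⟨i1, Finset.mem_univ _⟩
    have hne : w i0 ≠ 0 := by
      intro h0; have := hi0 i1 (Finset.mem_univ _); simp [h0, hi1] at this
    refine ⟨(w i0)⁻¹ • w, fun i => ?_, ⟨i0, by simp [hne]⟩, ?_⟩
    · simp only [Pi.smul_apply, smul_eq_mul, norm_mul, norm_inv]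
      rw [inv_mul_le_one₀ (norm_pos_iff.2 hne)]
      exact hi0 i (Finset.mem_univ _)
    · have : B *ᵥ w = a • w := by
        rw [Matrix.sub_mulVec, sub_eq_zero] at hw
        rw [← hw]; simp [Matrix.scalar_apply, ← Matrix.smul_one_eq_diagonal, Matrix.smul_mulVec]
      rw [Matrix.mulVec_smul, this, smul_comm]
  have bdvec : ∀ (s : ℝ), 0 ≤ s → ∀ (M : Matrix (Fin n) (Fin n) (PadicAlgCl l)), Bd s M →
      ∀ v : Fin n → PadicAlgCl l, (∀ i, ‖v i‖ ≤ 1) → ∀ i, ‖(M *ᵥ v) i‖ ≤ s := by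
    intro s hs M hM v hv i
    show ‖∑ k, M i k * v k‖ ≤ s
    refine IsUltrametricDist.norm_sum_le_of_forall_le_of_nonneg hs fun k _ => ?_
    rw [norm_mul]
    exact (mul_le_mul (hM i k) (hv k) (norm_nonneg _) hs).trans (by rw [mul_one])
  have rootnear : ∀ a, P.IsRoot a → ‖a - 1‖ ≤ rad l 2 := by
    intro a ha
    obtain ⟨v, hv, ⟨i, hi⟩, hev⟩ := eig a ha
    have := bdvec _ (rad_nonneg 2) _ hB1 v hv i
    have e : ((B - 1) *ᵥ v) i = (a - 1) * v i := by
      rw [Matrix.sub_mulVec, hev]; simp; ring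
    rwa [e, norm_mul, hi, mul_one] at this
  have hsplit : P.Splits := IsAlgClosed.splits P
  have hcard : P.roots.card = n := by rw [← hdeg]; exact (Polynomial.splits_iff_card_roots.1 hsplit)
  have hprod : P = (P.roots.map fun b => Polynomial.X - Polynomial.C b).prod :=
    hsplit.eq_prod_roots_of_monic hmon
  -- for each root there is a root near its `c m`-th power
  have near : ∀ m a, P.IsRoot a → ∀ ε : ℝ, rad l m < ε ^ n → 0 ≤ ε →
      ∃ b, P.IsRoot b ∧ ‖a ^ c m - b‖ < ε := by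
    intro m a ha ε hε hε0
    obtain ⟨v, hv, ⟨i, hi⟩, hev⟩ := eig a ha
    let B' : Matrix (Fin n) (Fin n) (PadicAlgCl l) :=
      (((T * A * T⁻¹ : GL (Fin n) ℚ_[l]) : Matrix (Fin n) (Fin n) ℚ_[l])).map f
    have hB' : B'.charpoly = P := by
      simp only [B', P, B, Matrix.charpoly_map]
      rw [Units.val_mul, Units.val_mul, Matrix.coe_units_inv, Matrix.charpoly_units_conj]
    have hBc : Bd (rad l 2) (B ^ c m - 1) := Bd.pow_near_one (rad_nonneg 2) (rad_le_one 2) hB1 _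
    have hdiff : Bd (rad l m) (B' - B ^ c m) := by
      have e : B' - B ^ c m = ((((T * A * T⁻¹ * (A ^ c m)⁻¹ : GL (Fin n) ℚ_[l]) :
          Matrix (Fin n) (Fin n) ℚ_[l]) - 1).map f) * B ^ c m := by
        have : B ^ c m = ((A ^ c m : GL (Fin n) ℚ_[l]) : Matrix (Fin n) (Fin n) ℚ_[l]).map f := by
          rw [Units.val_pow_eq_pow_val]; exact (map_pow f.mapMatrix _ _).symm
        rw [this, ← Matrix.map_mul, sub_mul, one_mul, ← Units.val_mul, inv_mul_cancel_right]
        simp [B', Matrix.map_sub]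
      rw [e]
      have := Bd.mul (rad_nonneg m) zero_le_one (bdmap _ _ (h m).1) (Bd.of_near_one (rad_le_one 2) hBc)
      rwa [mul_one] at this
    have hav : ∀ k : ℕ, B ^ k *ᵥ v = a ^ k • v := by
      intro k
      induction k with
      | zero => simp
      | succ k ih => rw [pow_succ, ← Matrix.mulVec_mulVec, hev, Matrix.mulVec_smul, ih, smul_smul, mul_comm, pow_succ]
    let M := Matrix.scalar (Fin n) (a ^ c m) - B'
    have hMv : ∀ j, ‖(M *ᵥ v) j‖ ≤ rad l m := by
      intro j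
      have : M *ᵥ v = -((B' - B ^ c m) *ᵥ v) := by
        simp only [M, Matrix.sub_mulVec, hav]
        simp [Matrix.scalar_apply, ← Matrix.smul_one_eq_diagonal, Matrix.smul_mulVec]
      rw [this, Pi.neg_apply, norm_neg]
      exact bdvec _ (rad_nonneg m) _ hdiff v hv j
    have hMbd : Bd 1 M := by
      have h1 : Bd 1 B' := Bd.of_near_one (rad_le_one 2) (by
        have := bdmap _ _ (cong_conj hT hA).1
        simpa [B', Matrix.map_sub, Matrix.map_one] using this)
      refine Bd.sub ?_ h1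
      intro p q
      have han : ‖a‖ ≤ 1 := by
        calc ‖a‖ = ‖(a - 1) + 1‖ := by ring_nf
          _ ≤ max ‖a - 1‖ ‖(1 : PadicAlgCl l)‖ := IsUltrametricDist.norm_add_le_max _ _
          _ ≤ 1 := by simp [(rootnear a ha).trans (rad_le_one 2)]
      by_cases hpq : p = q
      · subst hpq; simpa [Matrix.scalar_apply, norm_pow] using pow_le_one₀ (norm_nonneg _) han
      · simp [Matrix.scalar_apply, hpq]
    have hadj : Bd 1 M.adjugate := by
      intro p q
      rw [Matrix.adjugate_apply, Matrix.det_apply]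
      refine IsUltrametricDist.norm_sum_le_of_forall_le_of_nonneg zero_le_one fun σ _ => ?_
      rcases Int.units_eq_one_or (Equiv.Perm.sign σ) with hs | hs <;>
      · rw [hs]; simp only [one_smul, Units.neg_smul, norm_neg, norm_prod]
        refine Finset.prod_le_one (fun _ _ => norm_nonneg _) fun k _ => ?_
        rw [Matrix.updateRow_apply]
        split
        · by_cases hh : k = p <;> simp [Pi.single_apply, hh]
        · exact hMbd _ _
    have hdet : ‖M.det‖ ≤ rad l m := by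
      have := bdvec 1 zero_le_one _ hadj
      have e : (M.adjugate *ᵥ (M *ᵥ v)) i = M.det * v i := by
        rw [Matrix.mulVec_mulVec, Matrix.adjugate_mul]; simp [Matrix.smul_mulVec]
      have h2 : ‖(M.adjugate *ᵥ (M *ᵥ v)) i‖ ≤ rad l m := by
        show ‖∑ k, M.adjugate i k * (M *ᵥ v) k‖ ≤ rad l m
        refine IsUltrametricDist.norm_sum_le_of_forall_le_of_nonneg (rad_nonneg m) fun k _ => ?_
        rw [norm_mul]
        exact (mul_le_mul (hadj i k) (hMv k) (norm_nonneg _) zero_le_one).trans (by rw [one_mul])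
      rwa [e, norm_mul, hi, mul_one] at h2
    by_contra hno
    push Not at hno
    have h3 : ε ^ n ≤ ‖M.det‖ := by
      rw [show M.det = P.eval (a ^ c m) by rw [← hB', Matrix.eval_charpoly], hprod,
        Polynomial.eval_multiset_prod, Multiset.map_map]
      change ε ^ n ≤ (normHom : PadicAlgCl l →*₀ ℝ) _
      rw [map_multiset_prod, Multiset.map_map]
      rw [← hcard, ← Multiset.prod_replicate, ← Multiset.map_const']
      refine Multiset.prod_map_le_prod_map₀ _ _ (fun _ _ => hε0) fun b hb => ?_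
      simpa using hno b ((Polynomial.mem_roots hmon.ne_zero).1 hb)
    linarith
  -- all roots are one
  have roots_one : ∀ a ∈ P.roots, a = 1 := by
    intro a ha
    rw [Polynomial.mem_roots hmon.ne_zero] at ha
    by_contra hne
    have hpos : 0 < ‖a - 1‖ := norm_pos_iff.2 (sub_ne_zero.2 hne)
    let ε : ℝ := min 1 (rad l r * ‖a - 1‖)
    have hεpos : 0 < ε := lt_min zero_lt_one (mul_pos (rad_pos r) hpos)
    obtain ⟨k, hk⟩ := exists_pow_lt_of_lt_one (pow_pos hεpos n) (inv_l_lt_one (l := l))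
    let m := max k r
    have hm : rad l m < ε ^ n := lt_of_le_of_lt (rad_anti (le_max_left k r)) hk
    obtain ⟨hcl, hcd⟩ := hc m (le_max_right k r)
    have chain : ∀ i : ℕ, ∃ b, P.IsRoot b ∧ ‖a ^ (c m) ^ i - b‖ < ε := by
      intro i
      induction i with
      | zero => exact ⟨a, ha, by simpa using hεpos⟩
      | succ i ih =>
        obtain ⟨b, hb, hab⟩ := ih
        obtain ⟨b', hb', hbb⟩ := near m b hb ε hm hεpos.le
        refine ⟨b', hb', ?_⟩
        rw [pow_succ, pow_mul]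
        have hle : ‖(a ^ c m ^ i) ^ c m - b ^ c m‖ ≤ ‖a ^ c m ^ i - b‖ := by
          obtain ⟨z, hz⟩ : ∃ z, (a ^ c m ^ i) ^ c m - b ^ c m = z * (a ^ c m ^ i - b) ∧ ‖z‖ ≤ 1 := by
            refine ⟨∑ t ∈ Finset.range (c m), (a ^ c m ^ i) ^ t * b ^ (c m - 1 - t),
              (geom_sum₂_mul _ _ _).symm, ?_⟩
            refine IsUltrametricDist.norm_sum_le_of_forall_le_of_nonneg zero_le_one fun t _ => ?_
            have hn : ∀ y, P.IsRoot y → ‖y‖ ≤ 1 := fun y hy => by
              calc ‖y‖ = ‖(y - 1) + 1‖ := by ring_nf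
                _ ≤ max ‖y - 1‖ ‖(1 : PadicAlgCl l)‖ := IsUltrametricDist.norm_add_le_max _ _
                _ ≤ 1 := by simp [(rootnear y hy).trans (rad_le_one 2)]
            rw [norm_mul, norm_pow, norm_pow, norm_pow]
            exact mul_le_one₀ (pow_le_one₀ (by positivity) (pow_le_one₀ (norm_nonneg _) (hn a ha)))
              (by positivity) (pow_le_one₀ (norm_nonneg _) (hn b hb))
          rw [hz.1, norm_mul]
          exact mul_le_of_le_one_left (norm_nonneg _) hz.2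
        have := IsUltrametricDist.norm_add_le_max ((a ^ c m ^ i) ^ c m - b ^ c m) (b ^ c m - b')
        rw [sub_add_sub_cancel] at this
        exact lt_of_le_of_lt this (max_lt (lt_of_le_of_lt hle hab) hbb)
    choose b hb hab using chain
    have hpig : ∃ i j, i < j ∧ j ≤ n ∧ b i = b j := by
      have hlt : P.roots.toFinset.card < (Finset.range (n + 1)).card := by
        rw [Finset.card_range]
        exact Nat.lt_succ_of_le (hcard ▸ Multiset.toFinset_card_le _)
      obtain ⟨i, hi, j, hj, hij, hbe⟩ := Finset.exists_ne_map_eq_of_card_lt_of_maps_to hlt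
        (f := b) (fun i _ => Finset.mem_coe.2 (Multiset.mem_toFinset.2 ((Polynomial.mem_roots hmon.ne_zero).2 (hb i))))
      simp only [Finset.mem_range] at hi hj
      rcases hij.lt_or_gt with h' | h'
      · exact ⟨i, j, h', by omega, hbe⟩
      · exact ⟨j, i, h', by omega, hbe.symm⟩
    obtain ⟨i, j, hij, hjn, hbe⟩ := hpig
    have hclose : ‖a ^ (c m) ^ j - a ^ (c m) ^ i‖ < ε := by
      have := IsUltrametricDist.norm_add_le_max (a ^ (c m) ^ j - b j) (b i - a ^ (c m) ^ i)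
      rw [← hbe, sub_add_sub_cancel] at this
      refine lt_of_le_of_lt this (max_lt (hbe ▸ hab j) ?_)
      rw [norm_sub_rev]; exact hab i
    have hcpos : 1 ≤ c m := Nat.one_le_iff_ne_zero.2 fun h0 => hcl (h0 ▸ dvd_zero l)
    have hle : (c m) ^ i ≤ (c m) ^ j := Nat.pow_le_pow_right hcpos hij.le
    have hD : ¬ l ^ r ∣ (c m) ^ j - (c m) ^ i := by
      intro hdvd
      have e : (c m) ^ j - (c m) ^ i = (c m) ^ i * ((c m) ^ (j - i) - 1) := by
        rw [Nat.mul_sub, ← pow_add, Nat.add_sub_cancel' hij.le, mul_one]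
      rw [e] at hdvd
      have hco : Nat.Coprime (l ^ r) ((c m) ^ i) :=
        Nat.Coprime.pow _ _ ((Nat.Prime.coprime_iff_not_dvd hl.out).2 hcl)
      have h1 : l ^ r ∣ (c m) ^ (j - i) - 1 := hco.dvd_of_dvd_mul_left hdvd
      exact hcd (j - i) (by omega) (by omega)
        ((Nat.modEq_iff_dvd' (Nat.one_le_pow _ _ hcpos)).2 h1).symm
    have hDpos : 0 < (c m) ^ j - (c m) ^ i := Nat.pos_of_ne_zero fun h0 => hD (h0 ▸ dvd_zero _)
    rw [norm_pow_sub_pow (rootnear a ha) _ _ hle,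
      norm_pow_sub_one algCl_prime_norm hDpos (rootnear a ha)] at hclose
    have hDn : rad l r ≤ ‖(((c m) ^ j - (c m) ^ i : ℕ) : PadicAlgCl l)‖ := by
      rw [← map_natCast (algebraMap ℚ_[l] (PadicAlgCl l)), PadicAlgCl.norm_extends]
      by_contra hlt
      push Not at hlt
      apply hD
      have h5 : ‖((((c m) ^ j - (c m) ^ i : ℕ) : ℤ) : ℚ_[l])‖ ≤ (l : ℝ) ^ (-(r : ℤ)) := by
        refine le_of_lt ?_
        simpa [rad, _root_.zpow_neg, inv_pow] using hlt
      exact_mod_cast (Padic.norm_int_le_pow_iff_dvd _ r).1 h5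
    have := lt_of_le_of_lt (mul_le_mul_of_nonneg_right hDn hpos.le) hclose
    exact absurd this (not_lt.2 (min_le_right _ _))
  -- Cayley–Hamilton
  have hP : P = (Polynomial.X - 1) ^ n := by
    rw [hprod, Multiset.eq_replicate_card.2 roots_one, Multiset.map_replicate,
      Multiset.prod_replicate, hcard]
    simp
  have hAc : (A : Matrix (Fin n) (Fin n) ℚ_[l]).charpoly = (Polynomial.X - 1) ^ n := by
    apply Polynomial.map_injective f f.injective
    rw [← Matrix.charpoly_map]; simpa [P, B] using hP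
  refine ⟨n, ?_⟩
  have := Matrix.aeval_self_charpoly (A : Matrix (Fin n) (Fin n) ℚ_[l])
  rw [hAc] at this
  simpa using this

end Groth.Agent.Lib.LadicMonodromy
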